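import Mathlib
import Cfsg.Agent.H908.RIM.Eng
import Cfsg.Agent.H325.RIM.Surv
import Cfsg.Agent.OddHalf.NI.Mult
import Cfsg.Agent.S2108
import Cfsg.Agent.H53.HC.ExcIM
import Cfsg.Agent.H68.Bounds

/-!
# Relative Itô-Michler (S4816): the cross characteristic row of `²E₆(q)` (task RIM-L-2E6; helper726)

* `exists_over_one` : exceptional data `D : ExcData`, `J` all nodes but `j`, with one component `{k₀, k₁}` of type
  `A_2` (`gcd (3, q - 1) = 1`) and one of type `A_1`: every perfect central extension of `S` with kernel of odd order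
  prime to `r` has, over every linear character of the kernel, irreducible characters of degree divisible by any
  prime `p ≠ r` dividing `|S|`;
* `nb_TwE6` : `3 ∣ q + 1`, `NB p 3`, also for `q = 2`;
* `nball_TwE6`, `row_te6`, `row` : `NBall p`, `q > 2`, `p` not the characteristic.
-/

set_option autoImplicit false
set_option linter.unusedSectionVars false

namespace Cfsg.Agent.H726.RIM

open Cfsg Cfsg.Agent.Characters CoxeterSystem Cfsg.Agent.ChevalleyStructure.CoxeterGeom Cfsg.Agent.Tits.Roots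
  Cfsg.Agent.Tits.Core Cfsg.Agent.Nodes.Reps Cfsg.Agent.Nodes.BNOf Cfsg.Agent.Nodes.StabComb
  Cfsg.Agent.Nodes.Bruhat Cfsg.Agent.Nodes.LeviDec Cfsg.Agent.Nodes.RGDLift Cfsg.Agent.Nodes.RGDLib
open Cfsg.Agent.H53.HC Cfsg.Agent.H35.ExcIdx
open Cfsg.Agent.H622.Levi (Co exists_co exists_co_one exists_chain mem_center_of_ker Co.range Co.card)
open Cfsg.Agent.LieRecognition.BNCox (cA)
open Cfsg.Agent.H665.RIM (NB NBall)

universe u v w

/-! ### The lifted root group datum -/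

section lift

variable {I W S E : Type*} [Fintype I] [DecidableEq I] [Group W] [Finite W] [Group S] [Group E] [Finite E]
  {M : CoxeterMatrix I} {cs : CoxeterSystem M W} {A : I → I → ℤ} {h : IsCartan M A} {p : ℕ} [Fact p.Prime]
  {T : Subgroup S} {n : I → S} {X : (I → ℤ) → Subgroup S} {π : E →* S}

theorem map_Sup (hc : π.ker ≤ Subgroup.center E) (hk : (Nat.card π.ker).Coprime p) (hs : Function.Surjective π)
    (R : RGD cs h p T n X) {s : Set (I → ℤ)} (hr : ∀ x ∈ s, IsRoot cs h x) :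
    (RGD.Sup (fun x => lft p π (X x)) s).map π = RGD.Sup X s := by
  unfold RGD.Sup
  rw [Subgroup.map_iSup]
  exact iSup_congr fun x => map_lft hc hk hs (R.pgrp' (hr x x.2))

/-- the parabolic subgroups of the lifted datum -/
theorem PJ_lift (hc : π.ker ≤ Subgroup.center E) (hk : (Nat.card π.ker).Coprime p) (hs : Function.Surjective π)
    (R : RGD cs h p T n X) (J : Set I) :
    PJ cs h (T.comap π) (fun x => lft p π (X x)) J = (PJ cs h T X J).comap π := by
  have h1 : (PJ cs h (T.comap π) (fun x => lft p π (X x)) J).map π = PJ cs h T X J := by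
    unfold PJ LJ VJ
    rw [Subgroup.map_sup, Subgroup.map_sup, Subgroup.map_comap_eq_self_of_surjective hs,
      map_Sup hc hk hs R (fun x hx => hx.1), map_Sup hc hk hs R (fun x hx => hx.1)]
  rw [← h1, Subgroup.comap_map_eq]
  refine (sup_eq_left.2 ?_).symm
  refine le_trans (fun x hx => ?_) (le_trans (le_sup_left (a := T.comap π)) le_sup_left)
  rw [Subgroup.mem_comap, MonoidHom.mem_ker.1 hx]
  exact one_mem _

theorem index_PJ_lift (hc : π.ker ≤ Subgroup.center E) (hk : (Nat.card π.ker).Coprime p)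
    (hs : Function.Surjective π) (R : RGD cs h p T n X) (J : Set I) :
    (PJ cs h (T.comap π) (fun x => lft p π (X x)) J).index = (PJ cs h T X J).index := by
  rw [PJ_lift hc hk hs R, Subgroup.index_comap_of_surjective _ hs]

/-- the order of the lift of a `p`-subgroup -/
theorem card_lft (hc : π.ker ≤ Subgroup.center E) (hk : (Nat.card π.ker).Coprime p) (hs : Function.Surjective π)
    {P : Subgroup S} (hP : IsPGroup p P) : Nat.card ↥(lft p π P) = Nat.card P := by
  have h1 := map_lft hc hk hs hP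
  have h2 : Nat.card ↥(lft p π P) = Nat.card ↥((lft p π P).map π) := by
    refine Nat.card_congr (Equiv.ofBijective (fun x => (⟨π x, x, x.2, rfl⟩ : ↥((lft p π P).map π))) ⟨?_, ?_⟩)
    · intro x y hxy
      have h3 : π x = π y := congrArg Subtype.val hxy
      have h4 := eq_one_of_mem_lft hc hk hP (mul_mem (inv_mem x.2) y.2) (by
        rw [map_mul, map_inv, h3, inv_mul_cancel])
      exact Subtype.ext (inv_mul_eq_one.1 h4)
    · rintro ⟨_, x, hx, rfl⟩
      exact ⟨⟨x, hx⟩, rfl⟩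
  rw [h2, h1]

end lift

/-! ### Central elements -/

section cen

/-- elements commuting with a chain subgroup -/
theorem pow_of_central {Y : Type*} [Group Y] {m : ℕ} (hm : 0 < m) {F : Type} [Field F] [Finite F]
    {φ : Matrix.SpecialLinearGroup (Fin (m + 1)) F →* Y}
    (hker : φ.ker ≤ Subgroup.center (Matrix.SpecialLinearGroup (Fin (m + 1)) F))
    {g : Matrix.SpecialLinearGroup (Fin (m + 1)) F} (hg : ∀ s, φ g * φ s = φ s * φ g) :
    g ^ Nat.gcd (m + 1) (Nat.card F - 1) = 1 := by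
  have h1 := mem_center_of_ker hm hker hg
  rw [Matrix.SpecialLinearGroup.mem_center_iff] at h1
  obtain ⟨r, hr, hrg⟩ := h1
  rw [Fintype.card_fin] at hr
  have hr0 : r ≠ 0 := by
    rintro rfl
    rw [zero_pow (by omega)] at hr
    exact zero_ne_one hr
  have h2 : (Units.mk0 r hr0) ^ (m + 1) = 1 := by
    apply Units.ext
    rw [Units.val_pow_eq_pow_val, Units.val_mk0, Units.val_one, hr]
  have h3 : (Units.mk0 r hr0) ^ (Nat.card F - 1) = 1 := by
    rw [← Nat.card_units]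
    exact pow_card_eq_one'
  have h4 : (Units.mk0 r hr0) ^ Nat.gcd (m + 1) (Nat.card F - 1) = 1 := pow_gcd_eq_one.2 ⟨h2, h3⟩
  have h5 : r ^ Nat.gcd (m + 1) (Nat.card F - 1) = 1 := by
    have := congrArg Units.val h4
    rwa [Units.val_pow_eq_pow_val, Units.val_mk0, Units.val_one] at this
  apply Subtype.ext
  rw [Matrix.SpecialLinearGroup.coe_pow, ← hrg, ← map_pow, h5, map_one]
  rfl

variable {I W Y : Type*} [Fintype I] [DecidableEq I] [Group W] [Finite W] [Group Y] [Finite Y]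
  {M : CoxeterMatrix I} {cs : CoxeterSystem M W} {A : I → I → ℤ} {h : IsCartan M A} {r : ℕ}
  {T : Subgroup Y} {n : I → Y} {X : (I → ℤ) → Subgroup Y}

/-- central elements of `M_J`, `J` of type `A_2 + A_1` -/
theorem pow_two_of_central (R : RGD cs h r T n X) {k₀ k₁ k₂ j : I} (ho : Orth A {k₀, k₁} {k₂})
    (hk : M k₀ k₁ = 3) (hk2 : M k₂ j = 3) {q : ℕ} (hq : Nat.card (X (sr k₀)) = q) (h3 : Nat.Coprime 3 (q - 1))
    {z : Y} (hz : z ∈ Subgroup.center Y) (hzM : z ∈ MJ cs h X ({k₀, k₁} ∪ {k₂})) : z ^ 2 = 1 := by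
  have hcomm := ho.comm R
  rw [ho.MJ_union] at hzM
  have hle : MJ cs h X {k₀, k₁} ≤ Subgroup.normalizer (MJ cs h X {k₂} : Set Y) := by
    intro a ha
    rw [Subgroup.mem_normalizer_iff]
    intro b
    constructor
    · intro hb
      rw [hcomm a ha b hb, mul_inv_cancel_right]
      exact hb
    · intro hb
      have h1 := hcomm a⁻¹ (inv_mem ha) _ hb
      have h2 : b = a * b * a⁻¹ := by
        have h3 : a⁻¹ * (a * b * a⁻¹) = (a * b * a⁻¹) * a⁻¹ := h1
        have h4 : b * a⁻¹ = (a * b * a⁻¹) * a⁻¹ := by rw [← h3]; group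
        exact mul_right_cancel h4
      rw [h2]
      exact hb
  have h1 : z ∈ ((MJ cs h X {k₀, k₁} ⊔ MJ cs h X {k₂} : Subgroup Y) : Set Y) := hzM
  rw [Subgroup.coe_mul_of_left_le_normalizer_right _ _ hle] at h1
  obtain ⟨a, ha, b, hb, rfl⟩ := h1
  have hzc : ∀ y, (a * b) * y = y * (a * b) := fun y => (Subgroup.mem_center_iff.1 hz y).symm
  -- the first component
  obtain ⟨k, rfl, rfl, hK, hk'⟩ := exists_chain hk
  have ha1 : a = 1 := by
    obtain ⟨F, _, _, φ, C⟩ := exists_co R le_rfl k hk'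
    have hran : φ.range = MJ cs h X (Set.range k) := C.range hk' (by norm_num)
    have ha' : a ∈ φ.range := by rw [hran, hK]; exact ha
    obtain ⟨g, rfl⟩ := ha'
    have hcF := C.card 0
    rw [hq] at hcF
    have h2 := pow_of_central (m := 2) (by norm_num) C.ker (g := g) (fun s => by
      have hs : φ s ∈ MJ cs h X {k 0, k 1} := by rw [← hK, ← hran]; exact ⟨s, rfl⟩
      have h4 := hcomm _ hs b hb
      have h5 := hzc (φ s)
      have h6 : φ g * φ s * b = φ s * φ g * b := by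
        calc φ g * φ s * b = φ g * (φ s * b) := mul_assoc _ _ _
          _ = φ g * b * φ s := by rw [h4, mul_assoc]
          _ = φ s * φ g * b := by rw [h5, mul_assoc]
      exact mul_right_cancel h6)
    rw [← hcF, Nat.coprime_iff_gcd_eq_one.1 h3, pow_one] at h2
    rw [h2, map_one]
  subst ha1
  have hb1 : b ^ 2 = 1 := by
    obtain ⟨F, _, _, φ, C⟩ := exists_co_one R k₂ j hk2
    let k' : Fin 1 ↪ I := ⟨fun _ => k₂, fun a b _ => Subsingleton.elim a b⟩
    have hk'' : Set.range k' = {k₂} := by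
      ext x
      constructor
      · rintro ⟨_, rfl⟩; rfl
      · rintro rfl; exact ⟨0, rfl⟩
    have hkk : ∀ a b, M (k' a) (k' b) = cA 1 a b := by
      intro a b
      rw [Subsingleton.elim a b, M.diagonal, CoxeterMatrix.diagonal]
    have hran : φ.range = MJ cs h X (Set.range k') := Co.range (k := k') C hkk (by norm_num)
    have hb' : b ∈ φ.range := by rw [hran, hk'']; exact hb
    obtain ⟨g, rfl⟩ := hb'
    have h2 := pow_of_central (m := 1) (by norm_num) C.ker (g := g) (fun s => by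
      have h5 := hzc (φ s)
      rwa [one_mul] at h5)
    have h3 : g ^ 2 = 1 := by
      obtain ⟨c, hc⟩ := Nat.gcd_dvd_left 2 (Nat.card F - 1)
      have h4 : g ^ Nat.gcd 2 (Nat.card F - 1) = 1 := h2
      calc g ^ 2 = g ^ (Nat.gcd 2 (Nat.card F - 1) * c) := congrArg (fun t : ℕ => g ^ t) hc
        _ = 1 := by rw [pow_mul, h4, one_pow]
    rw [← map_pow, h3, map_one]
  show (1 * b) ^ 2 = 1
  rw [one_mul, hb1]

end cen

/-! ### Characters of the cover -/

section gen

variable {r q l : ℕ} {M : CoxeterMatrix (Fin l)} {A : Fin l → Fin l → ℤ} {h : IsCartan M A} {f : Fin l → ℕ}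
  {S : Type*} [Group S] {T : Subgroup S} {n : Fin l → S} {X : (Fin l → ℤ) → Subgroup S}

/-- **Characters of covers with kernel of odd order.** -/
theorem exists_over_one [Finite S] (hr : r.Prime) (hq : 2 ≤ q) {j k₀ k₁ k₂ j' : Fin l}
    (D : ExcData r q h f {i | i ≠ j} T n X) (hJ : ({i | i ≠ j} : Set (Fin l)) = {k₀, k₁} ∪ {k₂})
    (ho : ∀ i ∈ ({k₀, k₁} : Set (Fin l)), ∀ i' ∈ ({k₂} : Set (Fin l)), M i i' = 2) (hk : M k₀ k₁ = 3)
    (hk1 : M k₁ j = 2) (hk0 : M k₀ j = 3 ∨ M k₀ j = 4) (hk2 : M k₂ j' = 3)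
    (hun : ∀ a b, a ≠ j → b ≠ j → M a b = 3 → (∀ c, c ≠ j → c ≠ a → c ≠ b → M a c = 2 ∧ M b c = 2) →
      (a = k₀ ∧ b = k₁) ∨ (a = k₁ ∧ b = k₀)) (hf : f k₀ = q) (h3 : Nat.Coprime 3 (q - 1))
    {E : Type*} [Group E] [Finite E] {π : E →* S} (hs : Function.Surjective π)
    (hc : π.ker ≤ Subgroup.center E) (hE : commutator E = ⊤) (hco : (Nat.card π.ker).Coprime r)
    (hodd : Odd (Nat.card π.ker)) (l' : π.ker →* ℂˣ) {p : ℕ} (hp : p.Prime) (hd : p ∣ Nat.card S) (hpr : p ≠ r) :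
    ∃ χ : E → ℂ, IsIrrCharacter E χ ∧ (∀ z : π.ker, χ z = χ 1 * l' z) ∧ p ∣ charDegree χ := by
  classical
  have := D.fin
  have : Fact r.Prime := ⟨hr⟩
  have : Fintype E := Fintype.ofFinite E
  obtain ⟨g, hg⟩ := hs.hasRightInverse
  have R' := rgd_lift hc hco hs D.rgd (n := fun i => g (n i)) (fun i => hg (n i))
  have hG1 := OddHalf.NI.Mult.G1_lift D.rgd D.g1 hs hc hco hE
  have hGG : GG M.toCoxeterSystem h (T.comap π) (fun x => lft r π (X x)) = ⊤ := by
    rw [← top_le_iff, ← hG1]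
    exact le_sup_right
  have hsz : Nat.card ↥(lft r π (X (sr k₀))) = q := by
    rw [card_lft hc hco hs (D.rgd.pgrp k₀), D.size, hf]
  obtain ⟨θ, hθ, hns, d, t, hd1, hdt, ht⟩ := H622.Levi.inA2 R' hk hsz
  obtain ⟨θ', e, u, hθ', he1, heu, -⟩ := H622.Levi.cusp_node R' k₂ j' hk2 rfl
  have hmem : ∀ i, i ∈ ({i | i ≠ j} : Set (Fin l)) ↔ i ≠ j := fun i => Iff.rfl
  have hk0J : k₀ ∈ ({i | i ≠ j} : Set (Fin l)) := by rw [hJ]; simp
  have hk1J : k₁ ∈ ({i | i ≠ j} : Set (Fin l)) := by rw [hJ]; simp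
  have hOr : Orth A {k₀, k₁} {k₂} := orth_of h ho
  obtain ⟨χ, hχ, hχl, k, hk0', hχ1⟩ := H908.RIM.exists_irr_one_over R' hGG hmem hJ hOr rfl
    (isoPair_of h hk0J hk1J hk fun c hc' hc0 hc1 => by
      rw [hJ] at hc'
      rcases hc' with hc' | hc'
      · rcases hc' with rfl | rfl
        · exact absurd rfl hc0
        · exact absurd rfl hc1
      · exact ⟨ho _ (by simp) c hc', ho _ (by simp) c hc'⟩)
    (cartan_two h hk1).1 (not_three_dvd h hk0)
    (fun a b hab => by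
      obtain ⟨h1, h2, h3, h4⟩ := of_isoPair h hab
      exact hun a b h1 h2 h3 h4)
    hθ hns hθ' (Z := π.ker) hc (fun x hx => by
      rw [Subgroup.mem_comap, MonoidHom.mem_ker.1 hx]
      exact one_mem _)
    (fun z hz hzM => by
      rw [hJ] at hzM
      have h1 := pow_two_of_central R' hOr hk hk2 hsz h3 (hc hz) hzM
      have h2 : z ^ Nat.card π.ker = 1 := by
        have h3 : (⟨z, hz⟩ : π.ker) ^ Nat.card π.ker = 1 := pow_card_eq_one'
        exact congrArg Subtype.val h3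
      have h4 : z ^ Nat.gcd 2 (Nat.card π.ker) = 1 := pow_gcd_eq_one.2 ⟨h1, h2⟩
      rwa [Nat.coprime_iff_gcd_eq_one.1 (Nat.coprime_two_left.2 hodd), pow_one] at h4) l'
  refine ⟨χ, hχ, hχl, ?_⟩
  have h5 : χ 1 = (((PJ M.toCoxeterSystem h T X {i | i ≠ j}).index * (k * (d * e)) : ℕ) : ℂ) := by
    rw [hχ1, hd1, he1, index_PJ_lift hc hco hs D.rgd]
    push_cast
    ring
  have h6 := Cfsg.Agent.Blocks.Basic.irr_one_eq_charDegree hχ
  rw [h5] at h6
  have h7 : charDegree χ = (PJ M.toCoxeterSystem h T X {i | i ≠ j}).index * (k * (d * e)) := by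
    exact_mod_cast h6.symm
  rw [h7]
  by_cases h8 : p ∣ q - 1
  · have h9 := dvd_of_mul_eq hp hq h8 ht hdt
    exact Dvd.dvd.mul_left (Dvd.dvd.mul_left (Dvd.dvd.mul_right h9 _) _) _
  · exact Dvd.dvd.mul_right (D.idx p hp hd (fun h4 => hpr ((Nat.prime_dvd_prime_iff_eq hp hr).1 h4)) h8) _

end gen

section tw

open Cfsg.Lie Cfsg.Agent.Nodes Cfsg.Agent.H53.HC.ExcRows

/-- **Characters of the covers of `²E₆(q)`**, `3 ∣ q + 1`, `q = 2` included, kernel of order `3`. -/
theorem over_TwE6 {K : Type u} [Field K] [Fintype K] {q : ℕ} (hq : IsPrimePow q) (hK : Fintype.card K = q ^ 2)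
    (h3 : 3 ∣ q + 1) {p : ℕ} (hp : p.Prime) (hpq : ¬ p ∣ q) (hd : p ∣ Nat.card ↥(twistedE6 K q))
    {E : Type w} [Group E] [Finite E] {π : E →* ↥(twistedE6 K q)} (hs : Function.Surjective π)
    (hc : π.ker ≤ Subgroup.center E) (hE : commutator E = ⊤) (hm : Nat.card π.ker = 3) (l : π.ker →* ℂˣ) :
    ∃ χ : E → ℂ, IsIrrCharacter E χ ∧ (∀ z : π.ker, χ z = χ 1 * l z) ∧ p ∣ charDegree χ := by
  obtain ⟨r, f, hr, hf, hqf⟩ := (isPrimePow_nat_iff q).1 hq
  have hch : CharP K r := by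
    obtain ⟨r', hr'⟩ := CharP.exists K
    obtain ⟨g, hrp, hg⟩ := FiniteField.card K r'
    have h1 : r' = r := by
      have h2 : r' ∣ r ^ (f * 2) := by
        rw [pow_mul, hqf, ← hK, hg]
        exact dvd_pow_self _ g.ne_zero
      exact (Nat.prime_dvd_prime_iff_eq hrp hr).1 (hrp.dvd_of_dvd_pow h2)
    rwa [h1] at hr'
  obtain ⟨φ, hφ, hqq⟩ := Cfsg.Agent.ChevalleyStructure.TwE6Basic.exists_frob hq hK
  have : Finite ↥(twistedE6 K q) := by
    have : Finite (GL chevE6.Idx K) := by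
      have : Finite (Matrix chevE6.Idx chevE6.Idx K) := inferInstance
      infer_instance
    infer_instance
  have hr3 : r ≠ 3 := by
    rintro rfl
    have h1 : 3 ∣ q := by rw [← hqf]; exact dvd_pow_self _ hf.ne'
    omega
  have h2 : 2 ≤ q := hq.two_le
  refine exists_over_one hr h2 (data_TwE6_2 hr hf.ne' hqf.symm hφ hqq hK) compl4 (k₂ := 3) (j' := 2) ?_
    (by decide +kernel) (by decide +kernel) (by decide +kernel) (by decide +kernel) un4 rfl ?_ hs hc hE ?_ ?_ l hp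
    hd ?_
  · intro i hi i' hi'
    exact or4 i (by simpa using hi) i' (by simpa using hi')
  · rw [Nat.Prime.coprime_iff_not_dvd Nat.prime_three]
    omega
  · rw [hm]
    exact (Nat.coprime_primes Nat.prime_three hr).2 hr3.symm
  · rw [hm]
    decide
  · rintro rfl
    apply hpq
    rw [← hqf]
    exact dvd_pow_self _ hf.ne'

/-- **`²E₆(q)`, `3 ∣ q + 1`, `q = 2` included: kernel of order three.** -/
theorem nb_TwE6 {K : Type u} [Field K] [Fintype K] {q : ℕ} (hq : IsPrimePow q) (hK : Fintype.card K = q ^ 2)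
    (h3 : 3 ∣ q + 1) {p : ℕ} (hp : p.Prime) (hpq : ¬ p ∣ q) (hd : p ∣ Nat.card ↥(twistedE6 K q)) :
    NB p 3 ↥(twistedE6 K q) :=
  fun _ _ _ _ hs hc hE hm l _ => over_TwE6 hq hK h3 hp hpq hd hs hc hE hm l

/-- **`²E₆(q)`, `q > 2`, `p` not the characteristic.** -/
theorem nball_TwE6 {K : Type u} [Field K] [Fintype K] {q : ℕ} (hq : IsPrimePow q) (hK : Fintype.card K = q ^ 2)
    (h2 : q ≠ 2) {p : ℕ} (hp : p.Prime) (hpq : ¬ p ∣ q) (hd : p ∣ Nat.card ↥(twistedE6 K q)) :
    NBall p ↥(twistedE6 K q) := by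
  intro m hm hpm E _ _ π hs hc hE hcard l _
  obtain ⟨-, h1⟩ := Cfsg.Agent.H68.Bounds.ker_of_hasCyclic (Cfsg.Agent.S2108.result hq hK h2)
    (Cfsg.Agent.H51.Mult.PCE.mk hs hc hE)
  rw [hcard] at h1
  have h3 := h1.trans (Nat.gcd_dvd_left 3 (q + 1))
  have h4 : m = 3 := by
    rcases (Nat.dvd_prime Nat.prime_three).1 h3 with h5 | h5
    · omega
    · exact h5
  subst h4
  exact over_TwE6 hq hK (h1.trans (Nat.gcd_dvd_right 3 (q + 1))) hp hpq hd hs hc hE hcard l

end tw

/-- **The row of `²E₆(q)`** (field `te6` of `H325.RIM.RowsNB`). -/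
theorem row_te6 (p q : ℕ) (hp : p.Prime) (hpq : ¬ p ∣ q) (h2 : q ≠ 2) : H325.RIM.NBRow p (.te6 q) := by
  intro S _ _ hS hd
  obtain ⟨F, _, _, hF, ⟨e⟩⟩ := hS.real
  exact H325.RIM.NBall.congr e (nball_TwE6 hS.cond hF h2 hp hpq (by rwa [← Nat.card_congr e.toEquiv]))

/-- the field `te6` of `H325.RIM.RowsNB` -/
theorem row : ∀ p q : ℕ, p.Prime → p ≠ 2 → p ≠ 3 → ¬ p ∣ q → 3 ∣ q + 1 → q ≠ 2 → H325.RIM.NBRow p (.te6 q) :=
  fun p q hp _ _ hpq _ h2 => row_te6 p q hp hpq h2

/-- **Kernels of order three**, `q = 2` included. -/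
theorem nb_three {S : Type u} [Group S] {K : Type v} [Field K] [Fintype K] {q : ℕ} (hq : IsPrimePow q)
    (hK : Fintype.card K = q ^ 2) (e : S ≃* ↥(Lie.twistedE6 K q)) (h3 : 3 ∣ q + 1) {p : ℕ} (hp : p.Prime)
    (hpq : ¬ p ∣ q) (hd : p ∣ Nat.card S) : NB p 3 S :=
  H325.RIM.NB.congr e (nb_TwE6 hq hK h3 hp hpq (by rwa [← Nat.card_congr e.toEquiv]))

end Cfsg.Agent.H726.RIM
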